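import Groth.Agent.FlatThickLib.Chart
import Groth.Agent.ProjSectLib.Avoid
import Groth.Agent.ProjTopLib.Basic
import Groth.Agent.GenusZeroLib.PSpace
import Mathlib

/-!
# Forms cutting the closed fibre down to small dimension
-/

set_option autoImplicit false
set_option backward.isDefEq.respectTransparency false
set_option backward.isDefEq.respectTransparency.types false
universe u

open CategoryTheory AlgebraicGeometry IsLocalRing MvPolynomial GradedCechLib

noncomputable section

namespace FlatThickLib

variable (N : ℕ) (A : Type u) [CommRing A] [IsLocalRing A]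

/-- Reduction of forms to the closed point. -/
abbrev red : CohB1.polyGrading N A →+*ᵍ CohB1.polyGrading N (ResidueField A) := coeffHom N A (residue A)

theorem red_surjective : Function.Surjective (red N A) := MvPolynomial.map_surjective _ residue_surjective

theorem red_eq_zero_iff (p : Poly N A) : red N A p = 0 ↔ p ∈ (maximalIdeal A).map (C : A →+* Poly N A) := by
  rw [← ker_residue, ← MvPolynomial.ker_map]
  exact Iff.rfl

variable {N A}

theorem dPt_le (x : ProjectiveSpectrum (CohB1.polyGrading N (ResidueField A))) : ProjDimLib.dPt x ≤ N := by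
  refine (ProjDimLib.dPt_antitone (x := GenusZeroLib.genPt (ResidueField A) N) (y := x) fun a ha => ?_).trans_eq
    (GenusZeroLib.dPt_genPt _ N)
  have h0 : _ = (0 : Poly N (ResidueField A)) := (Submodule.mem_bot _).mp ha
  exact h0 ▸ zero_mem x.asHomogeneousIdeal.toIdeal

/-- Enough forms in `I` so that their common zeros on the closed fibre have dimension at most `n`. -/
theorem exists_forms {I : Ideal (Poly N A)} (hI : I.IsHomogeneous (CohB1.polyGrading N A)) (n : ℕ)
    (hdim : topologicalKrullDim (ProjectiveSpectrum.zeroLocus (CohB1.polyGrading N (ResidueField A))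
      ((red N A) '' (I : Set (Poly N A)))) ≤ ((n : ℕ) : WithBot ℕ∞)) :
    ∃ (F : Fin (N - n) → Poly N A) (d : Fin (N - n) → ℕ),
      (∀ i, 0 < d i ∧ F i ∈ CohB1.polyGrading N A (d i) ∧ F i ∈ I) ∧
      ∀ x : ProjectiveSpectrum (CohB1.polyGrading N (ResidueField A)),
        (∀ i, red N A (F i) ∈ x.asHomogeneousIdeal) → ProjDimLib.dPt x + (N - n) ≤ N := by
  classical
  let Y := ProjectiveSpectrum.zeroLocus (CohB1.polyGrading N (ResidueField A)) ((red N A) '' (I : Set (Poly N A)))
  have hY : IsClosed Y := ProjectiveSpectrum.isClosed_zeroLocus _ _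
  obtain ⟨h, e, hhe, hcut⟩ := ProjSectLib.exists_hypersurfaces (k := ResidueField A) (n := N) Set.univ Y isClosed_univ hY N
    (fun x _ => dPt_le x) (N - n)
  let Ib : HomogeneousIdeal (CohB1.polyGrading N (ResidueField A)) :=
    HomogeneousIdeal.map (red N A) ⟨I, hI⟩
  have hlift : ∀ i, ∃ (F : Poly N A) (m : ℕ), F ∈ CohB1.polyGrading N A ((m + 1) * e i) ∧ F ∈ I ∧
      red N A F = h i ^ (m + 1) := by
    intro i
    obtain ⟨he, hh, hhY⟩ := hhe i
    have hh' : h i ∈ CohB1.polyGrading N (ResidueField A) (e i) := hh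
    have hrad : h i ∈ Ib.toIdeal.radical := by
      refine (ProjTopLib.mem_radical_iff (CohB1.polyGrading N (ResidueField A)) Ib.isHomogeneous
        (ProjTopLib.mem_irrelevant_of_mem _ he hh')).2 fun x hx => hhY x ?_
      rintro _ ⟨a, ha, rfl⟩
      exact hx (Ideal.mem_map_of_mem _ ha)
    obtain ⟨m, hm⟩ := hrad
    have hm1 : h i ^ (m + 1) ∈ Ib.toIdeal := by rw [pow_succ]; exact Ideal.mul_mem_right _ _ hm
    obtain ⟨a, ha, hae⟩ := (Ideal.mem_map_iff_of_surjective _ (red_surjective N A)).1 hm1
    refine ⟨DirectSum.decompose (CohB1.polyGrading N A) a ((m + 1) * e i), m, SetLike.coe_mem _, hI _ ha, ?_⟩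
    rw [GradedRingHom.map_directSumDecompose, show red N A a = h i ^ (m + 1) from hae]
    exact DirectSum.decompose_of_mem_same _ (by simpa using SetLike.pow_mem_graded (m + 1) hh')
  choose F m hF hFI hFh using hlift
  refine ⟨F, fun i => (m i + 1) * e i, fun i => ⟨Nat.mul_pos (Nat.succ_pos _) (hhe i).1, hF i, hFI i⟩, fun x hx => ?_⟩
  by_cases hxY : x ∈ Y
  · have h1 := (ProjDimLib.dPt_le_dim hY hxY).trans hdim
    have h2 : ProjDimLib.dPt x ≤ n := by exact_mod_cast h1
    have h3 := dPt_le x
    omega
  · refine hcut x trivial hxY fun i => ?_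
    have h1 := hx i
    rw [hFh i] at h1
    exact x.isPrime.mem_of_pow_mem _ h1

end FlatThickLib

end
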