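import Groth.Agent.FlatLib.SchemeFlat
import Groth.Agent.FlatLib.SliceCM
import Groth.Agent.FanoCodimLib.Height
import Groth.Agent.CommAlgDim.CM
import Mathlib

/-!
# Flatness of slices of affine space with small closed fibre
-/

set_option autoImplicit false
set_option linter.style.haveILetI false
universe u

open IsLocalRing RingTheory.Sequence

noncomputable section

namespace FlatThickLib

variable {A : Type u} [CommRing A] [IsNoetherianRing A] [IsLocalRing A] {N : ℕ}

theorem dim_localized_quotient_le {B : Type u} [CommRing B] (q : Ideal B) [q.IsPrime] (J : Ideal B) :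
    ringKrullDim (Localization.AtPrime q ⧸ J.map (algebraMap B (Localization.AtPrime q))) ≤
      ringKrullDim (B ⧸ J) := by
  let L := Localization.AtPrime q
  let φ : B ⧸ J →+* L ⧸ J.map (algebraMap B L) :=
    Ideal.quotientMap _ (algebraMap B L) Ideal.le_comap_map
  have hinj : Function.Injective (PrimeSpectrum.comap φ) := by
    intro P P' h
    apply PrimeSpectrum.comap_injective_of_surjective _ Ideal.Quotient.mk_surjective
    apply PrimeSpectrum.localization_comap_injective L q.primeCompl
    have h' := congrArg (PrimeSpectrum.comap (Ideal.Quotient.mk J)) h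
    rw [← PrimeSpectrum.comap_comp_apply, ← PrimeSpectrum.comap_comp_apply] at h' ⊢
    exact h'
  have hmono : Monotone (PrimeSpectrum.comap φ) := fun P P' h => Ideal.comap_mono h
  exact Order.krullDim_le_of_strictMono _ (hmono.strictMono_of_injective hinj)

/-- Forms with small zero set on the closed fibre cut out a subscheme flat near that fibre. -/
theorem mem_flatLocus_of_dim (fs : List (MvPolynomial (Fin N) A))
    (hd : ringKrullDim (MvPolynomial (Fin N) (ResidueField A) ⧸
      (Ideal.ofList fs).map (MvPolynomial.map (σ := Fin N) (residue A))) + (fs.length : WithBot ℕ∞) ≤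
        ((N : ℕ) : WithBot ℕ∞))
    (Q : PrimeSpectrum (MvPolynomial (Fin N) A ⧸ Ideal.ofList fs)) [hQ : Q.asIdeal.IsMaximal]
    (hQm : Q.asIdeal.comap (algebraMap A _) = maximalIdeal A) :
    Q ∈ FlatLib.flatLocus A (MvPolynomial (Fin N) A ⧸ Ideal.ofList fs) (MvPolynomial (Fin N) A ⧸ Ideal.ofList fs) := by
  classical
  let J := Ideal.ofList fs
  let q : PrimeSpectrum (MvPolynomial (Fin N) A) := PrimeSpectrum.comap (Ideal.Quotient.mk J) Q
  haveI hqmax : q.asIdeal.IsMaximal := Ideal.comap_isMaximal_of_surjective _ Ideal.Quotient.mk_surjective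
  have hfq : ∀ f ∈ fs, f ∈ q.asIdeal := fun f hf => by
    show Ideal.Quotient.mk J f ∈ Q.asIdeal
    rw [Ideal.Quotient.eq_zero_iff_mem.2 (show f ∈ J from Ideal.subset_span hf)]
    exact zero_mem _
  have hqm : q.asIdeal.comap (algebraMap A (MvPolynomial (Fin N) A)) = maximalIdeal A := hQm
  let π : MvPolynomial (Fin N) A →+* MvPolynomial (Fin N) (ResidueField A) := MvPolynomial.map (residue A)
  have hπs : Function.Surjective π := MvPolynomial.map_surjective _ residue_surjective
  have hkπ : RingHom.ker π = (maximalIdeal A).map (algebraMap A (MvPolynomial (Fin N) A)) := by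
    rw [MvPolynomial.ker_map, ker_residue]
    rfl
  have hkq : RingHom.ker π ≤ q.asIdeal := by
    rw [hkπ, Ideal.map_le_iff_le_comap, hqm]
  let q' : Ideal (MvPolynomial (Fin N) (ResidueField A)) := q.asIdeal.map π
  have hq'c : q'.comap π = q.asIdeal :=
    (Ideal.comap_map_of_surjective π hπs _).trans (sup_eq_left.2 hkq)
  haveI hq'max : q'.IsMaximal := hqmax.map_of_surjective_of_ker_le hπs hkq
  let L := Localization.AtPrime q'
  let π' : MvPolynomial (Fin N) A →+* L := (algebraMap _ L).comp π
  have key : ∀ (K : Ideal (MvPolynomial (Fin N) A)) (m : MvPolynomial (Fin N) A),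
      π' m ∈ K.map π' ↔ ∃ t ∉ q.asIdeal, t * m ∈ K ⊔ RingHom.ker π := by
    intro K m
    rw [show K.map π' = (K.map π).map (algebraMap _ L) from (Ideal.map_map _ _).symm]
    show algebraMap _ L (π m) ∈ _ ↔ _
    rw [IsLocalization.algebraMap_mem_map_algebraMap_iff q'.primeCompl]
    constructor
    · rintro ⟨t', ht', htm⟩
      obtain ⟨t, rfl⟩ := hπs t'
      refine ⟨t, fun h => ht' (Ideal.mem_map_of_mem _ h), ?_⟩
      rw [← map_mul, ← Ideal.mem_comap, Ideal.comap_map_of_surjective π hπs] at htm
      exact htm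
    · rintro ⟨t, ht, htm⟩
      refine ⟨π t, fun h => ht (by rw [← hq'c]; exact h), ?_⟩
      rw [← map_mul, ← Ideal.mem_comap, Ideal.comap_map_of_surjective π hπs]
      exact htm
  haveI : IsRegularLocalRing L := IsRegularRing.isRegularLocalRing_localization q'
  have hm : ∀ r ∈ fs.map π', r ∈ maximalIdeal L := by
    intro r hr
    obtain ⟨f, hf, rfl⟩ := List.mem_map.1 hr
    show algebraMap _ L (π f) ∈ maximalIdeal L
    rw [IsLocalization.AtPrime.to_map_mem_maximal_iff L q']
    exact Ideal.mem_map_of_mem _ (hfq f hf)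
  have hdimL : ringKrullDim L = ((N : ℕ) : WithBot ℕ∞) := by
    rw [IsLocalization.AtPrime.ringKrullDim_eq_height q' L]
    have h := FanoCodimLib.height_add_dim_fin N q'
    rwa [ringKrullDim_eq_zero_of_isField ((Ideal.Quotient.maximal_ideal_iff_isField_quotient _).1 hq'max),
      zero_add] at h
  have hreg : IsRegular L (fs.map π') := by
    refine CommAlgDim.isRegular_of_dim (CommAlgDim.isCM_of_isRegularLocalRing L) hm ?_
    rw [List.length_map, hdimL]
    refine le_trans (add_le_add ?_ le_rfl) hd
    rw [show Ideal.ofList (fs.map π') = ((Ideal.ofList fs).map π).map (algebraMap _ L) by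
      rw [Ideal.map_map, Ideal.map_ofList]]
    exact dim_localized_quotient_le q' _
  have hflat : q ∈ FlatLib.flatLocus A (MvPolynomial (Fin N) A) (MvPolynomial (Fin N) A) :=
    (FlatLib.mem_flatLocus_self_iff q).2 (Module.Flat.trans A (MvPolynomial (Fin N) A) _)
  obtain ⟨U, -, hqU, -, hU⟩ := FlatLib.exists_open_slices q fs hfq hflat (fun i hi m hm' => by
    rw [hqm, ← hkπ] at hm' ⊢
    rw [← key] at hm' ⊢
    have hmap : (Ideal.ofList (fs.take i)).map π' = Ideal.ofList ((fs.map π').take i) := by
      rw [Ideal.map_ofList, List.map_take]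
    rw [hmap] at hm' ⊢
    have hi' : i < (fs.map π').length := by simpa using hi
    have hw := (isWeaklyRegular_iff L _).mp hreg.toIsWeaklyRegular i hi'
    have h0 : (Submodule.Quotient.mk (π' m) :
        L ⧸ (Ideal.ofList ((fs.map π').take i) • (⊤ : Submodule L L))) = 0 := by
      refine hw (Eq.trans ?_ (smul_zero _).symm)
      show (fs.map π')[i] • Submodule.Quotient.mk (π' m) = _
      rw [← Submodule.Quotient.mk_smul, Submodule.Quotient.mk_eq_zero, Ideal.smul_eq_mul, Ideal.mul_top,
        smul_eq_mul, List.getElem_map, ← map_mul]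
      exact hm'
    rwa [Submodule.Quotient.mk_eq_zero, Ideal.smul_eq_mul, Ideal.mul_top] at h0) fs.length le_rfl
  have h2 := hU q hqU
  rw [List.take_length] at h2
  refine (FlatLib.flat_localized_iff Q.asIdeal.primeCompl (LocalizedModule.mkLinearMap _ _)).mpr
    fun P _ _ M x hx => ?_
  obtain ⟨t, ht, htx⟩ :=
    (FlatLib.flat_localized_iff q.asIdeal.primeCompl (LocalizedModule.mkLinearMap _ _)).mp h2 P M x hx
  refine ⟨Ideal.Quotient.mk J t, ht, ?_⟩
  rw [← htx]
  exact algebraMap_smul (MvPolynomial (Fin N) A ⧸ J) t x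

end FlatThickLib

end
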