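import Groth.Agent.FlatThickLib.Chart
import Groth.Agent.FlatThickLib.Forms
import Groth.Agent.FlatThickLib.Local
import Groth.Agent.ProjDimLib.Basic
import Groth.Agent.FlatLib.QFCover
import Groth.Agent.FlatLib.OpenFP
import Groth.Agent.StratLib.Light
import Groth.Agent.S0403
import Mathlib

/-!
# Flat thickenings of closed subschemes of projective space over a local ring
-/

set_option autoImplicit false
set_option linter.style.haveILetI false
set_option backward.isDefEq.respectTransparency false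
set_option backward.isDefEq.respectTransparency.types false
universe u

open CategoryTheory CategoryTheory.Limits AlgebraicGeometry TopologicalSpace Topology
open IsLocalRing MvPolynomial GradedCechLib

noncomputable section

namespace FlatThickLib

theorem dim_le_of_image_subset {P P' S : Type*} [TopologicalSpace P] [TopologicalSpace P'] [TopologicalSpace S]
    {e : P' → P} {g : S → P} (he : IsEmbedding e) (hg : IsEmbedding g) {T : Set P'} {Y : Set S}
    (h : e '' T ⊆ g '' Y) : topologicalKrullDim T ≤ topologicalKrullDim Y :=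
  ((he.homeomorphImage T).isInducing.topologicalKrullDim_le.trans
    (IsEmbedding.inclusion h).isInducing.topologicalKrullDim_le).trans
    (hg.homeomorphImage Y).symm.isInducing.topologicalKrullDim_le

theorem dim_le_of_range_subset {P P' : Type*} [TopologicalSpace P] [TopologicalSpace P']
    {e : P' → P} (he : IsEmbedding e) {V : Set P}
    (h : ∀ y, e y ∈ V) : topologicalKrullDim P' ≤ topologicalKrullDim V :=
  (he.codRestrict V h).isInducing.topologicalKrullDim_le

theorem mem_flatLocus_of_dim' {A : Type u} [CommRing A] [IsNoetherianRing A] [IsLocalRing A] {N : ℕ}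
    (J : Ideal (MvPolynomial (Fin N) A)) (fs : List (MvPolynomial (Fin N) A)) (hJ : Ideal.ofList fs = J)
    (hd : ringKrullDim (MvPolynomial (Fin N) (ResidueField A) ⧸
      J.map (MvPolynomial.map (σ := Fin N) (residue A))) + (fs.length : WithBot ℕ∞) ≤
        ((N : ℕ) : WithBot ℕ∞))
    (Q : PrimeSpectrum (MvPolynomial (Fin N) A ⧸ J)) [Q.asIdeal.IsMaximal]
    (hQm : Q.asIdeal.comap (algebraMap A _) = maximalIdeal A) :
    Q ∈ FlatLib.flatLocus A (MvPolynomial (Fin N) A ⧸ J) (MvPolynomial (Fin N) A ⧸ J) := by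
  subst hJ
  exact mem_flatLocus_of_dim fs hd Q hQm

theorem irrelevant_le_span_X (N : ℕ) (A : Type u) [CommRing A] [DecidableEq (Poly N A)] :
    (HomogeneousIdeal.irrelevant (CohB1.polyGrading N A)).toIdeal ≤
      Ideal.span ((Finset.univ.image fun l : Fin (N + 1) => (X l : Poly N A)) : Set (Poly N A)) := by
  classical
  intro p hp
  rw [HomogeneousIdeal.mem_iff, HomogeneousIdeal.mem_irrelevant_iff, GradedRing.proj_apply] at hp
  have h0 : (DirectSum.decompose (CohB1.polyGrading N A) p 0 : Poly N A) = homogeneousComponent 0 p :=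
    MvPolynomial.decomposition.decompose'_apply p 0
  rw [h0, homogeneousComponent_zero] at hp
  have hp0 : coeff 0 p = 0 := C_injective _ _ (hp.trans C_0.symm)
  rw [Finset.coe_image, Finset.coe_univ]
  refine (mem_ideal_span_X_image).2 fun m hm => ?_
  have hm0 : m ≠ 0 := fun h => mem_support_iff.1 hm (h ▸ hp0)
  obtain ⟨l, hl⟩ := Finsupp.ne_iff.1 hm0
  exact ⟨l, Set.mem_univ _, by simpa using hl⟩

variable (A : Type u) [CommRing A] [IsNoetherianRing A] [IsLocalRing A]

/-- A closed subscheme of projective space over a local ring with small closed fibre lies in a flat one. -/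
theorem exists_thickening (N n : ℕ) {X' : Scheme.{u}} (i : X' ⟶ Proj (CohB1.polyGrading N A)) [IsClosedImmersion i]
    (hdim : topologicalKrullDim ((i ≫ CohB1.ProjSpace.toSpec N A) ⁻¹' {closedPoint A} : Set X') ≤
      ((n : ℕ) : WithBot ℕ∞)) :
    ∃ (Z : Scheme.{u}) (j : Z ⟶ Proj (CohB1.polyGrading N A)) (g : X' ⟶ Z),
      IsClosedImmersion j ∧ IsClosedImmersion g ∧ g ≫ j = i ∧ Flat (j ≫ CohB1.ProjSpace.toSpec N A) ∧
      ∀ s : ↥(Spec (CommRingCat.of A)),
        topologicalKrullDim ↥((j ≫ CohB1.ProjSpace.toSpec N A).fiber s) ≤ ((n : ℕ) : WithBot ℕ∞) := by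
  classical
  let 𝒜 := CohB1.polyGrading N A
  let k := ResidueField A
  -- the ideal of `X'`
  let s : Finset (Poly N A) := Finset.univ.image fun l : Fin (N + 1) => (X l : Poly N A)
  have hs1 : ∀ f ∈ s, f ∈ 𝒜 1 := fun f hf => by
    obtain ⟨l, -, rfl⟩ := Finset.mem_image.1 hf
    exact X_mem N A l
  let I := ProjClosedLib.idealOf 𝒜 s hs1 i
  have hI : I.IsHomogeneous 𝒜 := ProjClosedLib.idealOf_isHomogeneous 𝒜 s hs1 i
  letI := ProjClosedLib.gradedQuot 𝒜 I hI
  have hIs : Function.Surjective (ProjClosedLib.quotHom 𝒜 I) := Ideal.Quotient.mk_surjective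
  have hIφ := ProjClosedLib.irrelevant_le_map (ProjClosedLib.quotHom 𝒜 I) hIs
  obtain ⟨e, he⟩ := ProjClosedLib.exists_iso 𝒜 s hs1 i (ProjClosedLib.quotHom 𝒜 I) (irrelevant_le_span_X N A) hIs
    (fun k a ha => Ideal.Quotient.eq_zero_iff_mem.trans (ProjClosedLib.mem_idealOf_iff 𝒜 s hs1 i ha)) hIφ
  -- the closed fibre of the projective space
  have hred : Function.Surjective (red N A) := red_surjective N A
  have hredφ := ProjClosedLib.irrelevant_le_map (red N A) hred
  let r : Proj (CohB1.polyGrading N k) ⟶ Proj 𝒜 := Proj.map (red N A) hredφ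
  haveI : IsClosedImmersion r := ProjClosedLib.isClosedImmersion_map _ hred _
  have hr : ∀ x : ProjectiveSpectrum 𝒜, x ∈ Set.range r ↔
      (show PrimeSpectrum A from CohB1.ProjSpace.toSpec N A x) = closedPoint A := by
    intro x
    rw [show x ∈ Set.range r ↔ _ from mem_range_map_iff (red N A) hred hredφ x]
    constructor
    · intro h
      refine PrimeSpectrum.ext ?_
      refine (le_maximalIdeal (PrimeSpectrum.isPrime _).ne_top).antisymm fun a ha => (toSpec_mem_iff N A x a).2 ?_
      exact h _ ((red_eq_zero_iff N A _).2 (Ideal.mem_map_of_mem _ ha))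
    · intro h a ha
      refine ((Ideal.map_le_iff_le_comap).2 fun b hb => (toSpec_mem_iff N A x b).1 ?_) ((red_eq_zero_iff N A a).1 ha)
      rw [h]
      exact hb
  -- the forms
  obtain ⟨F, d, hFd, hcut⟩ := exists_forms hI n (by
    refine le_trans (dim_le_of_image_subset (g := i) r.isEmbedding i.isEmbedding ?_) hdim
    rintro _ ⟨y, hy, rfl⟩
    let ι := Proj.map (ProjClosedLib.quotHom 𝒜 I) hIφ
    obtain ⟨z, hz⟩ := (mem_range_map_iff (ProjClosedLib.quotHom 𝒜 I) hIs hIφ (r y)).2 fun a ha => by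
      show red N A a ∈ y.asHomogeneousIdeal
      exact hy ⟨a, Ideal.Quotient.eq_zero_iff_mem.1 ha, rfl⟩
    have hzx : i (e.inv z) = r y := by
      show (e.inv ≫ i) z = r y
      rw [← he, Iso.inv_hom_id_assoc]
      exact hz
    refine ⟨e.inv z, ?_, hzx⟩
    show CohB1.ProjSpace.toSpec N A (i (e.inv z)) = closedPoint A
    rw [hzx]
    exact (hr (r y)).1 ⟨y, rfl⟩)
  -- the thickening
  let J := Ideal.span (Set.range F)
  have hJ : J.IsHomogeneous 𝒜 :=
    Ideal.homogeneous_span 𝒜 _ (by rintro _ ⟨l, rfl⟩; exact ⟨d l, (hFd l).2.1⟩)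
  letI := ProjClosedLib.gradedQuot 𝒜 J hJ
  have hJs : Function.Surjective (ProjClosedLib.quotHom 𝒜 J) := Ideal.Quotient.mk_surjective
  have hJφ := ProjClosedLib.irrelevant_le_map (ProjClosedLib.quotHom 𝒜 J) hJs
  let jZ := Proj.map (ProjClosedLib.quotHom 𝒜 J) hJφ
  haveI : IsClosedImmersion jZ := ProjClosedLib.isClosedImmersion_map _ hJs _
  have hJI : J ≤ I := Ideal.span_le.2 (by rintro _ ⟨l, rfl⟩; exact (hFd l).2.2)
  let ψ : ProjClosedLib.quotGr 𝒜 J →+*ᵍ ProjClosedLib.quotGr 𝒜 I :=
    { Ideal.Quotient.factor hJI with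
      map_mem := by
        rintro k _ ⟨a, ha, rfl⟩
        exact ⟨a, ha, rfl⟩ }
  have hψs : Function.Surjective ψ := Ideal.Quotient.factor_surjective hJI
  have hψφ := ProjClosedLib.irrelevant_le_map ψ hψs
  have hψc : ψ.comp (ProjClosedLib.quotHom 𝒜 J) = ProjClosedLib.quotHom 𝒜 I := by
    ext a
    rfl
  haveI : IsClosedImmersion (Proj.map ψ hψφ) := ProjClosedLib.isClosedImmersion_map _ hψs _
  refine ⟨_, jZ, e.hom ≫ Proj.map ψ hψφ, inferInstance, inferInstance, ?_, ?_⟩
  · rw [Category.assoc, ← he, ← Proj.map_comp]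
    congr 2
  let f := jZ ≫ CohB1.ProjSpace.toSpec N A
  haveI : IsProper (CohB1.ProjSpace.toSpec N A) := StratLib.isProper_toSpec N A
  haveI : IsProper f := inferInstance
  haveI : CompactSpace ↥(Proj (ProjClosedLib.quotGr 𝒜 J)) := QuasiCompact.compactSpace_of_compactSpace f
  -- the forms on the closed fibre
  let V : Set (ProjectiveSpectrum (CohB1.polyGrading N k)) :=
    ProjectiveSpectrum.zeroLocus _ (Set.range fun l => red N A (F l))
  have hV : IsClosed V := ProjectiveSpectrum.isClosed_zeroLocus _ _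
  have hVd : topologicalKrullDim V ≤ ((N - (N - n) : ℕ) : WithBot ℕ∞) :=
    ProjDimLib.dim_le hV fun x hx => by
      have := hcut x fun l => hx ⟨l, rfl⟩
      omega
  -- the charts
  let B := MvPolynomial (Fin N) A
  let K : Fin (N + 1) → Ideal B := fun j => Ideal.span (Set.range fun l => GenusZeroLib.subst N A j (F l))
  have hflat : ∀ (j : Fin (N + 1)) (Q : PrimeSpectrum (B ⧸ K j)), Q.asIdeal.IsMaximal →
      Q.asIdeal.comap (algebraMap A _) = maximalIdeal A → Q ∈ FlatLib.flatLocus A (B ⧸ K j) (B ⧸ K j) := by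
    intro j Q hQ hQm
    refine mem_flatLocus_of_dim' (K j) (List.ofFn fun l => GenusZeroLib.subst N A j (F l))
      (congrArg Ideal.span (Set.ext fun b => by rw [Set.mem_setOf_eq, List.mem_ofFn, Set.mem_range])) ?_ Q hQm
    rw [List.length_ofFn]
    refine le_trans (add_le_add (b := ((N - (N - n) : ℕ) : WithBot ℕ∞)) ?_ le_rfl) ?_
    swap
    · rw [← Nat.cast_add]
      exact Nat.cast_le.2 (by omega)
    rw [← PrimeSpectrum.topologicalKrullDim_eq_ringKrullDim]
    refine (dim_le_of_range_subset ((chart N k j).isEmbedding.comp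
      (PrimeSpectrum.isClosedEmbedding_comap_of_surjective _ (Ideal.Quotient.mk ((K j).map
        (MvPolynomial.map (residue A)))) Ideal.Quotient.mk_surjective).isEmbedding) fun P => ?_).trans hVd
    rintro _ ⟨l, rfl⟩
    refine (mem_chart_iff N k j (hFd l).1 ((red N A).map_mem (hFd l).2.1) _).2 ?_
    show Ideal.Quotient.mk _ (GenusZeroLib.subst N k j (MvPolynomial.map (residue A) (F l))) ∈ P.asIdeal
    rw [subst_map, Ideal.Quotient.eq_zero_iff_mem.2 (Ideal.mem_map_of_mem _
      (Ideal.subset_span ⟨l, rfl⟩ : GenusZeroLib.subst N A j (F l) ∈ K j))]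
    exact zero_mem _
  have hc := fun j => exists_chart_quot (fun l => (hFd l).1) (fun l => (hFd l).2.1) hJ hJφ j
  choose c hco hcj hcr using hc
  have hcf : ∀ j, c j ≫ f = Spec.map (CommRingCat.ofHom (algebraMap A (B ⧸ K j))) := by
    intro j
    show c j ≫ jZ ≫ _ = _
    rw [← Category.assoc, hcj j, Category.assoc, chart_toSpec, ← Spec.map_comp]
    rfl
  haveI hfp : ∀ j, Algebra.FinitePresentation A (B ⧸ K j) := fun j =>
    Algebra.FinitePresentation.quotient (Submodule.fg_span (Set.finite_range _))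
  let W : Set ↥(Proj (ProjClosedLib.quotGr 𝒜 J)) :=
    ⋃ j, c j '' FlatLib.flatLocus A (B ⧸ K j) (B ⧸ K j)
  have hW : IsOpen W := isOpen_iUnion fun j => by
    haveI := hfp j
    haveI := hco j
    exact (c j).isOpenEmbedding.isOpenMap _ FlatLib.isOpen_flatLocus_fp
  have hWu : W = Set.univ := by
    by_contra hne
    obtain ⟨z, hzW, hz⟩ := hW.isClosed_compl.exists_closed_singleton (Set.nonempty_compl.2 hne)
    obtain ⟨j, q, hq⟩ := exists_chart N A (jZ z)
    obtain ⟨Q, rfl⟩ := (hcr j).ge (show z ∈ jZ ⁻¹' Set.range (chart N A j) from ⟨q, hq⟩)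
    haveI := hco j
    have hQc : IsClosed ({Q} : Set (PrimeSpectrum (B ⧸ K j))) := by
      have h1 := hz.preimage (c j).continuous
      rwa [← Set.image_singleton (f := c j), Set.preimage_image_eq _ (c j).isOpenEmbedding.injective] at h1
    have hm : (show PrimeSpectrum A from f (c j Q)) = closedPoint A := by
      have h1 : IsClosed ({f (c j Q)} : Set (PrimeSpectrum A)) := by
        rw [← Set.image_singleton]
        exact f.isClosedMap _ hz
      haveI := (PrimeSpectrum.isClosed_singleton_iff_isMaximal (show PrimeSpectrum A from f (c j Q))).1 h1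
      exact PrimeSpectrum.ext (eq_maximalIdeal ‹_›)
    refine hzW (Set.mem_iUnion.2 ⟨j, Q, hflat j Q ((PrimeSpectrum.isClosed_singleton_iff_isMaximal Q).1 hQc) ?_, rfl⟩)
    have h2 : (show PrimeSpectrum A from (c j ≫ f) Q) = closedPoint A := hm
    rw [hcf j] at h2
    exact congrArg PrimeSpectrum.asIdeal h2
  constructor
  · -- flatness
    have key : ∀ z, ∃ V : (Proj (ProjClosedLib.quotGr 𝒜 J)).Opens, z ∈ V ∧ Flat (V.ι ≫ f) := by
      intro z
      obtain ⟨j, Q, hQ, rfl⟩ := Set.mem_iUnion.1 (hWu.ge (Set.mem_univ z))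
      haveI := hfp j
      haveI := hco j
      obtain ⟨_, ⟨g, rfl⟩, hQg, hg⟩ := PrimeSpectrum.isTopologicalBasis_basic_opens.exists_subset_of_mem_open hQ
        (FlatLib.isOpen_flatLocus_fp (R := A) (S := B ⧸ K j) (M := B ⧸ K j))
      let o := Spec.map (CommRingCat.ofHom (algebraMap (B ⧸ K j) (Localization.Away g))) ≫ c j
      haveI : IsOpenImmersion (Spec.map (CommRingCat.ofHom (algebraMap (B ⧸ K j) (Localization.Away g)))) :=
        IsOpenImmersion.of_isLocalization g
      haveI : IsOpenImmersion o := inferInstance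
      haveI : Flat (o ≫ f) := by
        show Flat ((Spec.map _ ≫ c j) ≫ f)
        rw [Category.assoc, hcf j, ← Spec.map_comp, HasRingHomProperty.Spec_iff (P := @Flat)]
        show ((algebraMap (B ⧸ K j) (Localization.Away g)).comp (algebraMap A (B ⧸ K j))).Flat
        rw [← IsScalarTower.algebraMap_eq, RingHom.flat_algebraMap_iff]
        exact FlatLib.flat_away_of_basicOpen g fun P hP => hg hP
      refine ⟨o.opensRange, ?_, ?_⟩
      · obtain ⟨P, hP⟩ := (PrimeSpectrum.localization_away_comap_range (Localization.Away g) g).ge hQg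
        exact ⟨P, congrArg (c j) hP⟩
      · rw [← IsOpenImmersion.isoOfRangeEq_inv_fac o o.opensRange.ι (by simp), Category.assoc]
        infer_instance
    choose Vz hzV hVf using key
    exact (IsZariskiLocalAtSource.iff_of_iSup_eq_top (P := (@Flat.{u} : MorphismProperty Scheme.{u})) Vz
      (eq_top_iff.2 fun z _ => Opens.mem_iSup.2 ⟨z, hzV z⟩)).2 hVf
  · -- the fibres
    intro t
    have hopen := Groth.Agent.S0403.result f ((n : ℕ) : WithBot ℕ∞)
    have hcp : topologicalKrullDim ↥(f.fiber (closedPoint A : PrimeSpectrum A)) ≤ ((n : ℕ) : WithBot ℕ∞) := by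
      refine ((f.fiberHomeo _).isInducing.topologicalKrullDim_le).trans ?_
      refine (dim_le_of_image_subset (g := r) jZ.isEmbedding r.isEmbedding (Y := V) ?_).trans
        (hVd.trans (Nat.cast_le.2 (by omega)))
      rintro _ ⟨z, hz, rfl⟩
      obtain ⟨y, hy⟩ := (hr (jZ z)).2 hz
      refine ⟨y, ?_, hy⟩
      rintro _ ⟨l, rfl⟩
      have h1 : F l ∈ (show ProjectiveSpectrum 𝒜 from jZ z).asHomogeneousIdeal :=
        (mem_range_map_iff (ProjClosedLib.quotHom 𝒜 J) hJs hJφ (jZ z)).1 ⟨z, rfl⟩ _
          (Ideal.Quotient.eq_zero_iff_mem.2 (Ideal.subset_span ⟨l, rfl⟩))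
      rw [← hy] at h1
      exact h1
    exact (IsLocalRing.specializes_closedPoint (show PrimeSpectrum A from t)).mem_open hopen hcp

end FlatThickLib

end
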