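import Groth.Agent.GenusZeroLib.PSmooth
import Groth.Agent.ProjClosedLib.Map
import Groth.Agent.ProjClosedLib.Main
import Groth.Agent.ProjClosedLib.Quot
import Mathlib

/-!
# Affine charts of projective space and of its closed subschemes
-/

set_option autoImplicit false
set_option backward.isDefEq.respectTransparency false
set_option backward.isDefEq.respectTransparency.types false
universe u

open CategoryTheory CategoryTheory.Limits AlgebraicGeometry TopologicalSpace
open HomogeneousLocalization MvPolynomial GradedCechLib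

noncomputable section

namespace FlatThickLib

section Range

variable {A B σ τ : Type u} [CommRing A] [SetLike σ A] [AddSubgroupClass σ A]
  [CommRing B] [SetLike τ B] [AddSubgroupClass τ B]
  {𝒜 : ℕ → σ} {ℬ : ℕ → τ} [GradedRing 𝒜] [GradedRing ℬ] (φ : 𝒜 →+*ᵍ ℬ)

/-- The image of `Proj` of a surjection consists of the primes containing the kernel. -/
theorem mem_range_map_iff (hs : Function.Surjective φ)
    (hφ : HomogeneousIdeal.irrelevant ℬ ≤ (HomogeneousIdeal.irrelevant 𝒜).map φ) (x : ProjectiveSpectrum 𝒜) :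
    x ∈ Set.range (Proj.map φ hφ) ↔ ∀ a, φ a = 0 → a ∈ x.asHomogeneousIdeal := by
  constructor
  · rintro ⟨y, rfl⟩ a ha
    change φ a ∈ y.asHomogeneousIdeal
    rw [ha]
    exact y.asHomogeneousIdeal.toIdeal.zero_mem
  · intro h
    have hk : RingHom.ker (φ : A →+* B) ≤ x.asHomogeneousIdeal.toIdeal := fun a ha => h a ha
    haveI := x.isPrime
    have hp : (x.asHomogeneousIdeal.map φ).toIdeal.IsPrime := by
      rw [HomogeneousIdeal.toIdeal_map]
      exact Ideal.map_isPrime_of_surjective hs hk
    have hc : (x.asHomogeneousIdeal.map φ).toIdeal.comap (φ : A →+* B) = x.asHomogeneousIdeal.toIdeal := by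
      rw [HomogeneousIdeal.toIdeal_map]
      exact (Ideal.comap_map_of_surjective _ hs _).trans (sup_eq_left.2 hk)
    refine ⟨⟨x.asHomogeneousIdeal.map φ, hp, fun hle => x.not_irrelevant_le ?_⟩,
      ProjectiveSpectrum.ext (HomogeneousIdeal.ext hc)⟩
    intro a ha
    have h1 : φ a ∈ HomogeneousIdeal.irrelevant ℬ := by
      have h0 := (HomogeneousIdeal.mem_irrelevant_iff 𝒜 a).1 ha
      rw [GradedRing.proj_apply] at h0
      refine (HomogeneousIdeal.mem_irrelevant_iff ℬ _).2 ?_
      rw [GradedRing.proj_apply, ← GradedRingHom.map_directSumDecompose, h0, map_zero]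
    exact hc.le (hle h1)

end Range

variable (N : ℕ) (R : Type u) [CommRing R] (j : Fin (N + 1))

/-- The graded map given by a map of coefficient rings. -/
def coeffHom {S : Type u} [CommRing S] (f : R →+* S) : CohB1.polyGrading N R →+*ᵍ CohB1.polyGrading N S :=
  { MvPolynomial.map (σ := Fin (N + 1)) f with map_mem := fun {_ _} hx => MvPolynomial.IsHomogeneous.map hx _ }

/-- The chart ring is a polynomial ring. -/
def chartEq : MvPolynomial (Fin N) R ≃+* Away (CohB1.polyGrading N R) (X j : Poly N R) :=
  RingEquiv.ofBijective _ (GenusZeroLib.chartPoly_bijective N R j)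

theorem chartEq_subst (p : Poly N R) : chartEq N R j (GenusZeroLib.subst N R j p) = deh₀ N R j p := by
  have hfac : (GenusZeroLib.chartPoly N R j).comp (GenusZeroLib.subst N R j) = deh₀ N R j := by
    refine MvPolynomial.ringHom_ext (fun r => ?_) fun l => ?_
    · simp [GenusZeroLib.chartPoly, GenusZeroLib.subst, deh₀]
    · rcases Fin.eq_self_or_eq_succAbove j l with rfl | ⟨l, rfl⟩
      · rw [deh₀_X_self]
        simp [GenusZeroLib.chartPoly, GenusZeroLib.subst]
      · simp [GenusZeroLib.chartPoly, GenusZeroLib.subst]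
  exact RingHom.congr_fun hfac p

theorem subst_surjective : Function.Surjective (GenusZeroLib.subst N R j) := fun b => by
  obtain ⟨p, hp⟩ := deh₀_surjective N R j (chartEq N R j b)
  exact ⟨p, (chartEq N R j).injective (by rw [chartEq_subst, hp])⟩

theorem subst_map {S : Type u} [CommRing S] (f : R →+* S) (p : Poly N R) :
    GenusZeroLib.subst N S j (MvPolynomial.map f p) = MvPolynomial.map f (GenusZeroLib.subst N R j p) := by
  refine RingHom.congr_fun (f := (GenusZeroLib.subst N S j).comp (MvPolynomial.map f))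
    (g := (MvPolynomial.map f).comp (GenusZeroLib.subst N R j)) ?_ p
  refine MvPolynomial.ringHom_ext (fun r => ?_) fun l => ?_
  · simp [GenusZeroLib.subst]
  · rcases Fin.eq_self_or_eq_succAbove j l with rfl | ⟨l, rfl⟩
    · simp [GenusZeroLib.subst]
    · simp [GenusZeroLib.subst]

/-- The `j`-th affine chart. -/
def chart : Spec (CommRingCat.of (MvPolynomial (Fin N) R)) ⟶ Proj (CohB1.polyGrading N R) :=
  Spec.map (chartEq N R j).toCommRingCatIso.inv ≫
    Proj.awayι (CohB1.polyGrading N R) (X j : Poly N R) (X_mem N R j) one_pos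

instance isOpenImmersion_chart : IsOpenImmersion (chart N R j) := by
  unfold chart
  infer_instance

theorem range_chart : Set.range (chart N R j) = (Proj.basicOpen (CohB1.polyGrading N R) (X j : Poly N R) : Set _) := by
  rw [← Proj.opensRange_awayι (CohB1.polyGrading N R) (X j : Poly N R) (X_mem N R j) one_pos]
  show Set.range (Spec.map (chartEq N R j).toCommRingCatIso.inv ≫ _) = _
  rw [← Scheme.Hom.coe_opensRange, Scheme.Hom.opensRange_comp_of_isIso]

theorem exists_chart (x : ProjectiveSpectrum (CohB1.polyGrading N R)) :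
    ∃ (j : Fin (N + 1)) (q : Spec (CommRingCat.of (MvPolynomial (Fin N) R))), chart N R j q = x := by
  have h : (x : ↥(CohB1.ProjSpace N R)) ∈ ⨆ j, QCohLib.stdOpen N R j := by
    rw [QCohLib.iSup_stdOpen]; trivial
  obtain ⟨j, hj⟩ := Opens.mem_iSup.1 h
  have hj' : x ∈ Set.range (chart N R j) := by rw [range_chart]; exact hj
  obtain ⟨q, hq⟩ := hj'
  exact ⟨j, q, hq⟩

/-- A form of positive degree vanishes at a point of a chart iff its dehomogenisation does. -/
theorem mem_chart_iff {d : ℕ} (hd : 0 < d) {p : Poly N R} (hp : p ∈ CohB1.polyGrading N R d)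
    (q : Spec (CommRingCat.of (MvPolynomial (Fin N) R))) :
    p ∈ (show ProjectiveSpectrum (CohB1.polyGrading N R) from chart N R j q).asHomogeneousIdeal ↔
      GenusZeroLib.subst N R j p ∈ q.asIdeal := by
  have h := Proj.awayι_preimage_basicOpen (CohB1.polyGrading N R) (X_mem N R j) one_pos hp hd
  have he : Away.isLocalizationElem (X_mem N R j) hp = deh₀ N R j p := by
    refine HomogeneousLocalization.val_injective _ ?_
    rw [val_deh₀_homogeneous N R j p d ((mem_homogeneousSubmodule _ _).1 hp)]
    simp only [Away.val_mk, pow_one]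
    rfl
  rw [he] at h
  have h1 := SetLike.ext_iff.1 h (Spec.map (chartEq N R j).toCommRingCatIso.inv q)
  refine not_iff_not.1 (Iff.trans h1 ?_)
  show ¬ (chartEq N R j).symm (deh₀ N R j p) ∈ q.asIdeal ↔ _
  rw [← chartEq_subst, RingEquiv.symm_apply_apply]

theorem C_mem_chart_iff (r : R) (q : Spec (CommRingCat.of (MvPolynomial (Fin N) R))) :
    (C r : Poly N R) ∈ (show ProjectiveSpectrum (CohB1.polyGrading N R) from chart N R j q).asHomogeneousIdeal ↔
      (C r : MvPolynomial (Fin N) R) ∈ q.asIdeal := by
  let x : ProjectiveSpectrum (CohB1.polyGrading N R) := chart N R j q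
  have hs : GenusZeroLib.subst N R j (C r * X j) = C r := by
    simp [GenusZeroLib.subst]
  have h := mem_chart_iff N R j one_pos (p := C r * X j) (by
    have := SetLike.mul_mem_graded ((mem_homogeneousSubmodule _ _).2 (isHomogeneous_C (Fin (N + 1)) r)) (X_mem N R j)
    simpa using this) q
  rw [hs] at h
  refine Iff.trans ?_ h
  refine ⟨fun hc => x.asHomogeneousIdeal.toIdeal.mul_mem_right _ hc, fun hc => ?_⟩
  refine (x.isPrime.mem_or_mem hc).resolve_right ?_
  exact (range_chart N R j).le ⟨q, rfl⟩

theorem chart_toSpec : chart N R j ≫ CohB1.ProjSpace.toSpec N R =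
    Spec.map (CommRingCat.ofHom (C : R →+* MvPolynomial (Fin N) R)) := by
  change (Spec.map (chartEq N R j).toCommRingCatIso.inv ≫
      Proj.awayι (CohB1.polyGrading N R) (X j : Poly N R) (X_mem N R j) one_pos) ≫
    Proj.toSpecZero (CohB1.polyGrading N R) ≫
      Spec.map (CommRingCat.ofHom (algebraMap R (CohB1.polyGrading N R 0))) = _
  rw [Category.assoc, Proj.awayι_toSpecZero_assoc, ← Spec.map_comp, ← Spec.map_comp]
  congr 1
  refine CommRingCat.hom_ext (RingHom.ext fun r => ?_)
  show (chartEq N R j).symm (cst N R (X j : Poly N R) r) = C r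
  rw [RingEquiv.symm_apply_eq]
  exact (eval₂Hom_C _ _ r).symm

/-- The image of a point in the base. -/
theorem toSpec_mem_iff (x : ProjectiveSpectrum (CohB1.polyGrading N R)) (r : R) :
    r ∈ (show PrimeSpectrum R from CohB1.ProjSpace.toSpec N R x).asIdeal ↔
      (C r : Poly N R) ∈ x.asHomogeneousIdeal := by
  obtain ⟨j, q, rfl⟩ := exists_chart N R x
  refine Iff.trans ?_ (C_mem_chart_iff N R j r q).symm
  show r ∈ (show PrimeSpectrum R from (chart N R j ≫ CohB1.ProjSpace.toSpec N R) q).asIdeal ↔ _
  rw [chart_toSpec]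
  exact Iff.rfl

variable {N R}

/-- The chart of a closed subscheme cut out by forms. -/
theorem exists_chart_quot {σ : Type} {F : σ → Poly N R} {d : σ → ℕ} (hd : ∀ i, 0 < d i)
    (hF : ∀ i, F i ∈ CohB1.polyGrading N R (d i))
    (hJ : (Ideal.span (Set.range F)).IsHomogeneous (CohB1.polyGrading N R)) :
    letI := ProjClosedLib.gradedQuot (CohB1.polyGrading N R) (Ideal.span (Set.range F)) hJ
    ∀ (hφ : HomogeneousIdeal.irrelevant (ProjClosedLib.quotGr (CohB1.polyGrading N R) (Ideal.span (Set.range F))) ≤
        (HomogeneousIdeal.irrelevant (CohB1.polyGrading N R)).map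
          (ProjClosedLib.quotHom (CohB1.polyGrading N R) (Ideal.span (Set.range F)))) (j : Fin (N + 1)),
    ∃ c : Spec (CommRingCat.of (MvPolynomial (Fin N) R ⧸
        Ideal.span (Set.range fun i => GenusZeroLib.subst N R j (F i)))) ⟶
        Proj (ProjClosedLib.quotGr (CohB1.polyGrading N R) (Ideal.span (Set.range F))),
      IsOpenImmersion c ∧
      c ≫ Proj.map _ hφ = Spec.map (CommRingCat.ofHom (Ideal.Quotient.mk _)) ≫ chart N R j ∧
      Set.range c = (Proj.map _ hφ) ⁻¹' Set.range (chart N R j) := by
  letI := ProjClosedLib.gradedQuot (CohB1.polyGrading N R) (Ideal.span (Set.range F)) hJ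
  intro hφ j
  let J := Ideal.span (Set.range F)
  let K : Ideal (MvPolynomial (Fin N) R) := Ideal.span (Set.range fun i => GenusZeroLib.subst N R j (F i))
  let φ := ProjClosedLib.quotHom (CohB1.polyGrading N R) J
  let ρ : MvPolynomial (Fin N) R →+*
      Away (ProjClosedLib.quotGr (CohB1.polyGrading N R) J) (φ (X j : Poly N R)) :=
    (Away.map φ (X j : Poly N R)).comp (chartEq N R j).toRingHom
  have hsurj : Function.Surjective ρ :=
    (ProjClosedLib.awayMap_surjective φ Ideal.Quotient.mk_surjective (X_mem N R j)).comp (chartEq N R j).surjective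
  have hK : RingHom.ker ρ = K := by
    refine le_antisymm (fun b hb => ?_) (Ideal.span_le.2 ?_)
    · obtain ⟨k, a, ha, he⟩ := Away.mk_surjective (CohB1.polyGrading N R) (X_mem N R j) (chartEq N R j b)
      have hb' : Away.map φ (X j : Poly N R) (chartEq N R j b) = 0 := hb
      rw [← he, Away.map_mk] at hb'
      obtain ⟨M, hM⟩ := (ProjClosedLib.away_mk_eq_zero _ _).1 hb'
      rw [← map_pow, ← map_mul] at hM
      have hJ' : (X j : Poly N R) ^ M * a ∈ J := Ideal.Quotient.eq_zero_iff_mem.1 hM
      have h1 := Ideal.mem_map_of_mem (GenusZeroLib.subst N R j) hJ'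
      rw [Ideal.map_span, ← Set.range_comp, map_mul, map_pow,
        show GenusZeroLib.subst N R j (X j) = 1 by simp [GenusZeroLib.subst], one_pow, one_mul] at h1
      have hba : b = GenusZeroLib.subst N R j a := (chartEq N R j).injective (by
        rw [chartEq_subst, ← he]
        refine HomogeneousLocalization.val_injective _ ?_
        rw [val_deh₀_homogeneous N R j a k ((mem_homogeneousSubmodule _ _).1 (by simpa using ha)), Away.val_mk]
        rfl)
      rw [hba]
      exact h1
    · rintro _ ⟨i, rfl⟩
      show Away.map φ (X j : Poly N R) (chartEq N R j (GenusZeroLib.subst N R j (F i))) = 0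
      rw [chartEq_subst]
      have he : deh₀ N R j (F i) =
          Away.mk (CohB1.polyGrading N R) (X_mem N R j) (d i) (F i) (by simpa using hF i) := by
        refine HomogeneousLocalization.val_injective _ ?_
        rw [val_deh₀_homogeneous N R j (F i) (d i) ((mem_homogeneousSubmodule _ _).1 (hF i)), Away.val_mk]
        rfl
      rw [he, Away.map_mk]
      refine (ProjClosedLib.away_mk_eq_zero _ _).2 ⟨0, ?_⟩
      rw [pow_zero, one_mul]
      exact Ideal.Quotient.eq_zero_iff_mem.2 (Ideal.subset_span ⟨i, rfl⟩)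
  let e := (Ideal.quotEquivOfEq hK.symm).trans (RingHom.quotientKerEquivOfSurjective hsurj)
  let a := Proj.awayι (ProjClosedLib.quotGr (CohB1.polyGrading N R) J) (φ (X j : Poly N R))
    (φ.map_mem (X_mem N R j)) one_pos
  refine ⟨Spec.map e.toCommRingCatIso.inv ≫ a, inferInstance, ?_, ?_⟩
  · rw [Category.assoc, Proj.awayι_comp_map φ hφ one_pos _ (X_mem N R j), chart, ← Category.assoc,
      ← Category.assoc, ← Spec.map_comp, ← Spec.map_comp]
    congr 2
    refine CommRingCat.hom_ext (RingHom.ext fun z => ?_)
    show e.symm (Away.map φ (X j : Poly N R) z) = Ideal.Quotient.mk _ ((chartEq N R j).symm z)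
    rw [RingEquiv.symm_apply_eq]
    show _ = ρ ((chartEq N R j).symm z)
    simp [ρ]
  · rw [← Scheme.Hom.coe_opensRange, Scheme.Hom.opensRange_comp_of_isIso, Proj.opensRange_awayι, range_chart]
    rfl

end FlatThickLib

end
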